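import Cfsg.Agent.MFiveHN.Inst
import Cfsg.Agent.LThreeMB.Six
import Cfsg.Agent.MFive.Row
import Cfsg.Agent.OrdCrit.Spor
import Cfsg.Agent.S1763
import Cfsg.Agent.CoFive.Ranks
import Cfsg.Agent.FastGrp
import Cfsg.Agent.Prune
set_option linter.all false
prune_inst 0x7f00000000000000000000000000000000000000000000000000000000000000000000000000000000000000000000000000000000000000000000000000000000000000000000000000000000000000003fffffffffffffffffffffffffffbeffbdffffffff
open scoped Cfsg.Agent.FastGrp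

-- merged: Cfsg.Agent.MFiveHN.Final
section

/-!
# `C_G(x) / ⟨x⟩ ≅ HN` for every `x` of order 5 and fixed rank 8 (helper72)

`hn_eight` : the statement `MFive.HNEight z pi`, from S1763, the orders of the sporadic groups and the conjugacy of the
elements of order 5 of `Co1` with fixed rank 8.
-/

set_option autoImplicit false

namespace Cfsg.Agent.MFiveHN.Final

open Cfsg.Agent.LThreeMB (fr XX exists_XX_equiv)
open Cfsg.Agent.MFive (ClassOf orderOf_pi)
open Cfsg Cfsg.Agent.MonsterU
open Cfsg.Agent.MonsterU.Ch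
open Cfsg.Agent.MonsterU.Lam2 (L2)
open Cfsg.Spor (Co1)

universe u

variable {G : Type u} [Group G] {Q : Subgroup G} {z : G} {eta : G → L2}
  {pi : Subgroup.centralizer ({z} : Set G) →* Co1}

/-- **`x` of order 5 and fixed rank 8.** -/
theorem hn_eight (H : Ords.St1763.{u}) (S : OrdCrit.SporOrders.{u}) (hcl : ClassOf 5 (2 ^ 8)) [Finite G]
    [IsSimpleGroup G] (h : Chart Q z eta pi) (x : Subgroup.centralizer ({z} : Set G)) (hx : orderOf x = 5)
    (hfr : fr (pi x) = 2 ^ 8) : Spor.IsoHN (XX (x : G)) := by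
  obtain ⟨k, hk⟩ := hcl (pi x) Cent.xx (orderOf_pi h (by norm_num) (by decide) hx) Cent.order_x hfr Inst.fr_xx
  obtain ⟨c, hc⟩ := h.pi_surj k
  have h1 : pi (c * x * c⁻¹) = Cent.xx := by rw [map_mul, map_mul, map_inv, hc, hk]
  have h2 : orderOf (c * x * c⁻¹) = 5 := by
    rw [← hx]
    exact orderOf_injective (MulAut.conj c).toMonoidHom (MulAut.conj c).injective x
  have h3 : Spor.IsoHN (XX ((c * x * c⁻¹ : Subgroup.centralizer ({z} : Set G)) : G)) :=
    iso_hn H S h h2 (by rw [h1]; exact Inst.fr_xx) hcl (by rw [h1]; exact Inst.cEight)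
  have h4 : (c : G)⁻¹ * ((c * x * c⁻¹ : Subgroup.centralizer ({z} : Set G)) : G) * (c : G)⁻¹⁻¹ = x := by
    show (c : G)⁻¹ * ((c : G) * x * (c : G)⁻¹) * (c : G)⁻¹⁻¹ = x
    group
  obtain ⟨-, ⟨e⟩⟩ := exists_XX_equiv h4
  exact h3.map fun f => e.symm.trans f

end Cfsg.Agent.MFiveHN.Final

end

-- merged: Cfsg.Agent.MFiveHN.ClosedOf
section

/-!
# `HNEight` modulo the conjugacy of the elements of order 5 and fixed rank 8 (helper72)
-/

set_option autoImplicit false

namespace Cfsg.Agent.MFiveHN.Closed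

open Cfsg.Agent.MFive (ClassOf HNEight)
open Cfsg Cfsg.Agent.MonsterU
open Cfsg.Agent.MonsterU.Ch
open Cfsg.Agent.MonsterU.Lam2 (L2)
open Cfsg.Spor (Co1)

universe u

theorem st1763 : Ords.St1763.{u} := by
  intro G _ _ _ hG z hz hQ hE hcard
  exact Cfsg.Agent.S1763.result hG z hz hQ hE hcard

variable {G : Type u} [Group G] {Q : Subgroup G} {z : G} {eta : G → L2}
  {pi : Subgroup.centralizer ({z} : Set G) →* Co1}

/-- **The recognition of `HN` for fixed rank 8.** -/
theorem hnEight_of (hcl : ClassOf 5 (2 ^ 8)) [Finite G] [IsSimpleGroup G] (h : Chart Q z eta pi) : HNEight z pi :=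
  fun x hx hfr => Final.hn_eight st1763 OrdCrit.sporOrders hcl h x hx hfr

end Cfsg.Agent.MFiveHN.Closed

end

-- merged: Cfsg.Agent.MFiveHN.Closed
section

/-!
# The elements of order 5 and fixed rank 8 of the Monster: `HNEight` (helper72)
-/

set_option autoImplicit false

namespace Cfsg.Agent.MFiveHN.Closed

open Cfsg.Agent.MFive (HNEight)
open Cfsg Cfsg.Agent.MonsterU
open Cfsg.Agent.MonsterU.Ch
open Cfsg.Agent.MonsterU.Lam2 (L2)
open Cfsg.Spor (Co1)

universe u

variable {G : Type u} [Group G] {Q : Subgroup G} {z : G} {eta : G → L2}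
  {pi : Subgroup.centralizer ({z} : Set G) →* Co1}

/-- **The recognition of `HN` for fixed rank 8.** -/
theorem hnEight [Finite G] [IsSimpleGroup G] (h : Chart Q z eta pi) : HNEight z pi :=
  hnEight_of (CoFive.Ranks.classOf _) h

end Cfsg.Agent.MFiveHN.Closed

end
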