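import Cfsg.Agent.MFiveHN.Cent
import Cfsg.Agent.MonsterU.Lam2
import Cfsg.Agent.MFiveHN.Eight
set_option linter.all false

-- merged: Cfsg.Agent.MFiveHN.FixB
section

/-!
# The fixed vectors modulo two of an element of type `1^4 5^4` (helper72)

* `mem_of` : they are generated by the classes of eight fixed vectors `ub i` of norm 64;
* `card_fixed` : there are `2^8` of them.
-/

set_option autoImplicit false

namespace Cfsg.Agent.MFiveHN.FixB

open Cfsg Cfsg.Agent.SporadicA Cfsg.Agent.SporadicA.Co0Mono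
open Cfsg.Agent.SporadicStructure.Co0Matrix
open Cfsg.Agent.MFiveHN.Perm Cfsg.Agent.MFiveHN.Cent
open Cfsg.Agent.MonsterU.Lam2
open Cfsg.Agent.SporadicA.GolayBase (idx idx_lt pt)

/-- eight fixed vectors -/
def UL : List (List ℤ) := [
  [0, 0, 0, 0, 0, 0, 0, 8, 0, 0, 0, 0, 0, 0, 0, 0, 0, 0, 0, 0, 0, 0, 0, 0],
  [0, 0, 0, 0, 0, 0, -4, -4, 0, 0, 0, 0, 0, 0, 0, 0, 0, 0, -4, 0, 0, 4, 0, 0],
  [0, -2, 0, 0, 0, 0, -2, 0, 0, 0, 0, 0, -2, -2, 0, 0, -2, 0, 2, 0, 0, -6, 0, -2],
  [0, 0, 2, 2, 2, 0, 6, 2, 0, 0, 0, 2, 0, 0, 0, 0, 0, 0, 0, 0, 2, -2, 0, 0],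
  [0, 0, 0, 0, 0, 2, 0, -6, 2, 0, 2, 0, 0, 0, 2, 2, 0, 0, 2, 0, 0, 2, 0, 0],
  [0, 2, 0, 0, 0, 0, 2, 0, 0, 0, 0, 0, 2, 2, 0, 0, 2, 0, -6, 0, 0, 2, 0, 2],
  [2, 0, 0, 0, 0, 0, -6, 2, 0, 2, 0, 0, 0, 0, 0, 0, 0, 2, 2, 2, 0, 0, 2, 0],
  [-1, 1, -3, -3, -3, -1, -1, 1, -1, -1, -1, -3, 1, 1, -1, -1, 1, -1, 1, -1, -3, -1, -1, 1]]

/-- the `i`-th vector -/
def ul (i : ℕ) : List ℤ := UL.getD i []

theorem ul_ok : ∀ i : Fin 8, leechB (ul i) = true := by decide +kernel

/-- the `i`-th vector in the lattice -/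
def ub (i : Fin 8) : leechLattice := ⟨vec (ul i), vec_mem_of_leechB (ul_ok i)⟩

theorem ub_coe (i : Fin 8) : ((ub i : leechLattice) : GolayPt → ℤ) = vec (ul i) := rfl

theorem norm_ub : ∀ i : Fin 8, sqNorm (vec (ul i)) = 64 := by decide +kernel

theorem smul_coe (v : leechLattice) (p : GolayPt) :
    ((a5 • v : leechLattice) : GolayPt → ℤ) p = (v : GolayPt → ℤ) (pi5.symm p) := isPerm_a5 v p

theorem idx_symm : ∀ p : GolayPt, idx (pi5.symm p) = G5.getD (idx p) 0 := by decide +kernel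

theorem fix_ul : ∀ (i : Fin 8) (p : GolayPt), vec (ul i) (pi5.symm p) = vec (ul i) p := by decide +kernel

theorem smul_ub (i : Fin 8) : a5 • ub i = ub i := by
  apply Subtype.ext
  funext p
  rw [smul_coe]
  exact fix_ul i p

/-- the sum over the cycles -/
noncomputable def TT : leechLattice →+ leechLattice :=
  AddMonoidHom.id _ + smulHom a5 + (smulHom a5).comp (smulHom a5) + (smulHom a5).comp ((smulHom a5).comp (smulHom a5)) +
    (smulHom a5).comp ((smulHom a5).comp ((smulHom a5).comp (smulHom a5)))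

theorem TT_apply (v : leechLattice) :
    TT v = v + a5 • v + a5 • (a5 • v) + a5 • (a5 • (a5 • v)) + a5 • (a5 • (a5 • (a5 • v))) := rfl

/-- coordinates of the sum over the cycles -/
def tl (g : List ℤ) (j : ℕ) : ℤ :=
  let s : ℕ → ℕ := fun j => G5.getD j 0
  g.getD j 0 + g.getD (s j) 0 + g.getD (s (s j)) 0 + g.getD (s (s (s j))) 0 + g.getD (s (s (s (s j)))) 0

/-- coordinates of a combination of the basis -/
def cl8 (m : ℕ) (j : ℕ) : ℤ :=
  (if m.testBit 0 then (ul 0).getD j 0 else 0) + (if m.testBit 1 then (ul 1).getD j 0 else 0) +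
  (if m.testBit 2 then (ul 2).getD j 0 else 0) + (if m.testBit 3 then (ul 3).getD j 0 else 0) +
  (if m.testBit 4 then (ul 4).getD j 0 else 0) + (if m.testBit 5 then (ul 5).getD j 0 else 0) +
  (if m.testBit 6 then (ul 6).getD j 0 else 0) + (if m.testBit 7 then (ul 7).getD j 0 else 0)

/-- the coefficients -/
def bit (m i : ℕ) : ℤ := if m.testBit i then 1 else 0

/-- half the difference -/
def wl (g : List ℤ) (m : ℕ) : List ℤ := (List.range 24).map fun j => (tl g j - cl8 m j) / 2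

/-- the check -/
def chkG (g : List ℤ) (m : ℕ) : Bool :=
  (List.range 24).all (fun j => decide ((tl g j - cl8 m j) % 2 = 0)) && leechB (wl g m)

/-- the masks of the combinations -/
def masks : List ℕ := [93, 0, 120, 120, 120, 38, 37, 3, 38, 93, 38, 120, 0, 0, 38, 38, 0, 93, 123, 93, 120, 94, 93, 27, 34, 62, 113, 23, 123, 29, 34, 66, 22, 112, 18, 78, 42, 118, 72, 70, 37, 77, 31, 42, 113, 34, 1, 1, 209]

theorem chk_all : (gens.all fun g => masks.any fun m => chkG g m) = true := by decide +kernel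

theorem vec_symm (g : List ℤ) (p : GolayPt) : vec g (pi5.symm p) = g.getD (G5.getD (idx p) 0) 0 := by
  rw [vec_apply, idx_symm]

theorem TT_coe (g : List ℤ) (h : vec g ∈ leechLattice) (p : GolayPt) :
    ((TT ⟨vec g, h⟩ : leechLattice) : GolayPt → ℤ) p = tl g (idx p) := by
  rw [TT_apply]
  show (vec g p + ((a5 • (⟨vec g, h⟩ : leechLattice) : leechLattice) : GolayPt → ℤ) p +
    ((a5 • (a5 • (⟨vec g, h⟩ : leechLattice)) : leechLattice) : GolayPt → ℤ) p +
    ((a5 • (a5 • (a5 • (⟨vec g, h⟩ : leechLattice))) : leechLattice) : GolayPt → ℤ) p +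
    ((a5 • (a5 • (a5 • (a5 • (⟨vec g, h⟩ : leechLattice)))) : leechLattice) : GolayPt → ℤ) p) = _
  simp only [smul_coe]
  show vec g p + vec g (pi5.symm p) + vec g (pi5.symm (pi5.symm p)) + vec g (pi5.symm (pi5.symm (pi5.symm p))) +
    vec g (pi5.symm (pi5.symm (pi5.symm (pi5.symm p)))) = _
  simp only [vec_apply, idx_symm]
  rfl

/-- combinations in the lattice -/
noncomputable def comb (m : ℕ) : leechLattice :=
  bit m 0 • ub 0 + bit m 1 • ub 1 + bit m 2 • ub 2 + bit m 3 • ub 3 + bit m 4 • ub 4 + bit m 5 • ub 5 +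
    bit m 6 • ub 6 + bit m 7 • ub 7

theorem comb_coe (m : ℕ) (p : GolayPt) : ((comb m : leechLattice) : GolayPt → ℤ) p = cl8 m (idx p) := by
  have h : ((comb m : leechLattice) : GolayPt → ℤ) p =
    bit m 0 * vec (ul 0) p + bit m 1 * vec (ul 1) p + bit m 2 * vec (ul 2) p + bit m 3 * vec (ul 3) p +
      bit m 4 * vec (ul 4) p + bit m 5 * vec (ul 5) p + bit m 6 * vec (ul 6) p + bit m 7 * vec (ul 7) p := by
    show (leechLattice.subtype (comb m)) p = _
    unfold comb
    simp only [map_add, map_zsmul, Pi.add_apply, Pi.smul_apply, smul_eq_mul]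
    rfl
  rw [h]
  unfold bit cl8
  simp only [ite_mul, one_mul, zero_mul, vec_apply]

theorem exists_two {g : List ℤ} (hg : g ∈ gens) (h : vec g ∈ leechLattice) :
    ∃ (m : ℕ) (w : leechLattice), TT ⟨vec g, h⟩ = comb m + 2 • w := by
  have h1 := List.all_eq_true.1 chk_all g hg
  rw [List.any_eq_true] at h1
  obtain ⟨m, -, h2⟩ := h1
  unfold chkG at h2
  rw [Bool.and_eq_true, List.all_eq_true] at h2
  obtain ⟨h3, h4⟩ := h2
  refine ⟨m, ⟨vec (wl g m), vec_mem_of_leechB h4⟩, ?_⟩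
  apply Subtype.ext
  funext p
  have h5 := of_decide_eq_true (h3 (idx p) (List.mem_range.2 (idx_lt p)))
  have h6 : vec (wl g m) p = (tl g (idx p) - cl8 m (idx p)) / 2 := getD_range_map _ p
  show ((TT ⟨vec g, h⟩ : leechLattice) : GolayPt → ℤ) p = ((comb m : leechLattice) : GolayPt → ℤ) p +
    (leechLattice.subtype (2 • (⟨vec (wl g m), vec_mem_of_leechB h4⟩ : leechLattice))) p
  rw [TT_coe, comb_coe, map_nsmul, Pi.smul_apply]
  show _ = _ + 2 • vec (wl g m) p
  rw [h6, nsmul_eq_mul]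
  push_cast
  omega

/-- **The fixed classes are generated by the `cl (ub i)`.** -/
theorem mem_TT {W : AddSubgroup L2} (hW : ∀ i : Fin 8, cl (ub i) ∈ W) (v : leechLattice) : cl (TT v) ∈ W := by
  have h : leechLattice ≤ (W.comap (cl.comp TT)).map leechLattice.subtype := by
    apply leech_le
    intro g hg
    have hgl : vec g ∈ leechLattice := vec_mem_of_leechB (List.all_eq_true.mp gens_leech g hg)
    refine ⟨⟨vec g, hgl⟩, ?_, rfl⟩
    rw [SetLike.mem_coe, AddSubgroup.mem_comap]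
    show cl (TT ⟨vec g, hgl⟩) ∈ W
    obtain ⟨m, w, h1⟩ := exists_two hg hgl
    rw [h1, map_add, cl_two, add_zero]
    unfold comb
    simp only [map_add, map_zsmul]
    have hz : ∀ i : Fin 8, bit m i • cl (ub i) ∈ W := fun i => W.zsmul_mem (hW i) _
    exact W.add_mem (W.add_mem (W.add_mem (W.add_mem (W.add_mem (W.add_mem (W.add_mem (hz 0) (hz 1)) (hz 2)) (hz 3))
      (hz 4)) (hz 5)) (hz 6)) (hz 7)
  obtain ⟨u, hu, huv⟩ := h v.2
  have : u = v := Subtype.ext huv
  rw [← this]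
  exact hu

theorem smul_xx (y : L2) : xx • y = a5 • y := mk_smul a5 y

theorem mem_of {W : AddSubgroup L2} (hW : ∀ i : Fin 8, cl (ub i) ∈ W) {y : L2} (hy : xx • y = y) : y ∈ W := by
  obtain ⟨v, rfl⟩ := cl_surjective y
  rw [smul_xx] at hy
  have h1 : cl (TT v) = cl v := by
    rw [TT_apply]
    simp only [map_add, ← smul_cl, hy]
    rw [add_self, zero_add, add_self, zero_add]
  rw [← h1]
  exact mem_TT hW v

theorem fixed_ub (i : Fin 8) : xx • cl (ub i) = cl (ub i) := by rw [smul_xx, smul_cl, smul_ub]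

theorem type_ub (i : Fin 8) : IsType 4 (cl (ub i)) := ⟨ub i, by rw [ub_coe, norm_ub]; norm_num, rfl⟩

/-! ### Independence -/

/-- the Gram matrix modulo two -/
def gram (i j : Fin 8) : ZMod 2 := ((dotInt (vec (ul i)) (vec (ul j)) / 8 : ℤ) : ZMod 2)

/-- its inverse -/
def ginv (i j : Fin 8) : ZMod 2 := (([[0, 0, 1, 1, 0, 0, 1, 1], [0, 0, 1, 1, 0, 0, 1, 0], [1, 1, 0, 1, 0, 1, 0, 0], [1, 1, 1, 0, 1, 0, 0, 0], [0, 0, 0, 1, 0, 0, 1, 0], [0, 0, 1, 0, 0, 0, 1, 0], [1, 1, 0, 0, 1, 1, 0, 0], [1, 0, 0, 0, 0, 0, 0, 0]] : List (List (ZMod 2))).getD i []).getD j 0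

theorem gram_inv : ∀ i k : Fin 8, ∑ j, gram i j * ginv j k = if i = k then 1 else 0 := by decide +kernel

theorem bf_ub (i j : Fin 8) : bf (cl (ub i)) (cl (ub j)) = gram i j := bf_cl (ub i) (ub j)

/-- combinations -/
noncomputable def lin : (Fin 8 → ZMod 2) →ₗ[ZMod 2] L2 := Fintype.linearCombination (ZMod 2) fun i => cl (ub i)

theorem lin_apply (c : Fin 8 → ZMod 2) : lin c = ∑ i, c i • cl (ub i) := Fintype.linearCombination_apply _ _ _

theorem bf_lin (c : Fin 8 → ZMod 2) (j : Fin 8) : bf (lin c) (cl (ub j)) = ∑ i, c i * gram i j := by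
  rw [lin_apply]
  have h : ∀ s : Finset (Fin 8), bf (∑ i ∈ s, c i • cl (ub i)) (cl (ub j)) = ∑ i ∈ s, c i * gram i j := by
    intro s
    induction s using Finset.induction_on with
    | empty => rw [Finset.sum_empty, Finset.sum_empty, bf_zero_left]
    | insert a s ha ih =>
      rw [Finset.sum_insert ha, Finset.sum_insert ha, bf_add_left, ih]
      congr 1
      have h2 : c a = 0 ∨ c a = 1 := by generalize c a = x; revert x; decide
      rcases h2 with h2 | h2
      · rw [h2, zero_smul, zero_mul, bf_zero_left]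
      · rw [h2, one_smul, one_mul, bf_ub]
  exact h _

theorem lin_injective : Function.Injective lin := by
  rw [← LinearMap.ker_eq_bot, LinearMap.ker_eq_bot']
  intro c hc
  have h1 : ∀ j : Fin 8, ∑ i, c i * gram i j = 0 := fun j => by rw [← bf_lin, hc, bf_zero_left]
  funext k
  have h2 : ∑ j, (∑ i, c i * gram i j) * ginv j k = c k := by
    calc ∑ j, (∑ i, c i * gram i j) * ginv j k = ∑ j, ∑ i, c i * (gram i j * ginv j k) := by
          refine Finset.sum_congr rfl fun j _ => ?_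
          rw [Finset.sum_mul]
          exact Finset.sum_congr rfl fun i _ => mul_assoc _ _ _
      _ = ∑ i, c i * ∑ j, gram i j * ginv j k := by
          rw [Finset.sum_comm]
          exact Finset.sum_congr rfl fun i _ => (Finset.mul_sum _ _ _).symm
      _ = c k := by
          simp only [gram_inv, mul_ite, mul_one, mul_zero, Finset.sum_ite_eq', Finset.mem_univ, if_true]
  rw [← h2]
  simp only [h1, zero_mul, Finset.sum_const_zero]
  rfl

theorem fixed_lin (c : Fin 8 → ZMod 2) : xx • lin c = lin c := by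
  rw [lin_apply, Finset.smul_sum]
  refine Finset.sum_congr rfl fun i _ => ?_
  have h2 : c i = 0 ∨ c i = 1 := by generalize c i = x; revert x; decide
  rcases h2 with h2 | h2
  · rw [h2, zero_smul]; exact _root_.smul_zero xx
  · rw [h2, one_smul, fixed_ub]

/-- **There are `2^8` fixed vectors.** -/
theorem card_fixed : Nat.card {v : L2 // xx • v = v} = 2 ^ 8 := by
  have h : Nat.card (Fin 8 → ZMod 2) = 2 ^ 8 := by
    rw [Nat.card_eq_fintype_card, Fintype.card_fun, ZMod.card, Fintype.card_fin]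
  rw [← h]
  symm
  refine Nat.card_congr (Equiv.ofBijective (fun c => (⟨lin c, fixed_lin c⟩ : {v : L2 // xx • v = v})) ⟨?_, ?_⟩)
  · intro c d hcd
    exact lin_injective (congrArg Subtype.val hcd)
  · rintro ⟨y, hy⟩
    have h1 : y ∈ (LinearMap.range lin).toAddSubgroup := by
      apply mem_of _ hy
      intro i
      refine ⟨Pi.single i 1, ?_⟩
      rw [lin_apply, Finset.sum_eq_single i]
      · rw [Pi.single_eq_same, one_smul]
      · intro j _ hj
        rw [Pi.single_eq_of_ne hj, zero_smul]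
      · intro h; exact absurd (Finset.mem_univ i) h
    obtain ⟨c, rfl⟩ := h1
    exact ⟨c, rfl⟩

end Cfsg.Agent.MFiveHN.FixB

end

-- merged: Cfsg.Agent.MFiveHN.Inst
section

/-!
# The element `xx` of type `1^4 5^4` of `Co₁` satisfies `CEight` (helper72)
-/

set_option autoImplicit false

namespace Cfsg.Agent.MFiveHN.Inst

open Cfsg Cfsg.Agent.SporadicA
open Cfsg.Agent.SporadicStructure.Co0Matrix Cfsg.Agent.CoOneType.CoEval
open Cfsg.Agent.MFiveHN.Mat Cfsg.Agent.MFiveHN.Cent Cfsg.Agent.MFiveHN.FixB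
open Cfsg.Agent.MonsterU.Lam2
open Cfsg.Agent.LThreeMB (fr XX Zx Faith)
open Subgroup (centralizer mem_centralizer_singleton_iff)

theorem gen_four : GenFour xx := fun _ hW _ hv => mem_of (fun i => hW _ (fixed_ub i) (type_ub i)) hv

theorem fr_xx : fr xx = 2 ^ 8 := card_fixed

theorem moves : ∃ i j : Fin 8, ((dotInt (vec (ap rT (ul i))) (vec (ul j)) / 8 : ℤ) : ZMod 2) ≠ gram i j := by
  decide +kernel

theorem length_ul : ∀ i : Fin 8, (ul i).length ≤ 24 := by decide

/-- `tt` moves a fixed vector of `xx` -/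
theorem exists_moved : ∃ i : Fin 8, tt • cl (ub i) ≠ cl (ub i) := by
  obtain ⟨i, j, hij⟩ := moves
  refine ⟨i, fun h => hij ?_⟩
  have h1 : tt • cl (ub i) = cl (e 0 • ub i) := mk_smul (e 0) (cl (ub i))
  have h2 : ((e 0 • ub i : leechLattice) : GolayPt → ℤ) = vec (ap rT (ul i)) :=
    Rep.apply (rep 0) (v := ub i) (l := ul i) (length_ul i) rfl
  have h3 : bf (cl (e 0 • ub i)) (cl (ub j)) = gram i j := by rw [← h1, h, bf_ub]
  rw [bf_cl, b0, h2] at h3
  exact h3

/-- the elements acting trivially on the fixed points of `xx` -/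
def NN : Subgroup ↥(centralizer ({xx} : Set Spor.Co1)) where
  carrier := {g | ∀ v : L2, xx • v = v → (g : Spor.Co1) • v = v}
  one_mem' := fun v _ => one_smul _ v
  mul_mem' := by
    intro g k hg hk v hv
    show ((g : Spor.Co1) * k) • v = v
    rw [mul_smul, hk v hv, hg v hv]
  inv_mem' := by
    intro g hg v hv
    show ((g : Spor.Co1))⁻¹ • v = v
    rw [inv_smul_eq_iff, hg v hv]

theorem mem_NN {g : ↥(centralizer ({xx} : Set Spor.Co1))} :
    g ∈ NN ↔ ∀ v : L2, xx • v = v → (g : Spor.Co1) • v = v := Iff.rfl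

instance NN_normal : NN.Normal where
  conj_mem := by
    intro n hn g v hv
    show ((g : Spor.Co1) * n * (g : Spor.Co1)⁻¹) • v = v
    have hg : (g : Spor.Co1) * xx = xx * g := mem_centralizer_singleton_iff.1 g.2
    have hg' : (g : Spor.Co1)⁻¹ * xx = xx * (g : Spor.Co1)⁻¹ := by
      rw [inv_mul_eq_iff_eq_mul, ← mul_assoc, hg, mul_assoc, mul_inv_cancel, mul_one]
    have h1 : xx • ((g : Spor.Co1)⁻¹ • v) = (g : Spor.Co1)⁻¹ • v := by
      rw [← mul_smul, ← hg', mul_smul, hv]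
    rw [mul_smul, mul_smul, hn _ h1, smul_inv_smul]

theorem Zx_le : Zx xx ≤ NN := by
  intro g hg
  obtain ⟨i, hi⟩ := Subgroup.mem_zpowers_iff.1 hg
  rw [mem_NN]
  intro v hv
  have h1 : xx ^ i = (g : Spor.Co1) := congrArg Subtype.val hi
  rw [← h1]
  have h2 : xx ∈ MulAction.stabilizer Spor.Co1 v := hv
  exact (MulAction.stabilizer Spor.Co1 v).zpow_mem h2 i

theorem faith : Faith xx := by
  intro g hg hv
  have hN : (NN.map (QuotientGroup.mk' (Zx xx))).Normal :=
    Subgroup.Normal.map NN_normal _ (QuotientGroup.mk'_surjective _)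
  have hmem : ∀ k : ↥(centralizer ({xx} : Set Spor.Co1)), QuotientGroup.mk' (Zx xx) k ∈ NN.map (QuotientGroup.mk' (Zx xx)) →
      k ∈ NN := by
    rintro k ⟨n, hn, hnk⟩
    have h1 : n⁻¹ * k ∈ Zx xx := QuotientGroup.eq.1 hnk
    have h2 := NN.mul_mem hn (Zx_le h1)
    rwa [mul_inv_cancel_left] at h2
  rcases quo.2 _ hN with h | h
  · have h1 : (⟨g, mem_centralizer_singleton_iff.2 hg⟩ : ↥(centralizer ({xx} : Set Spor.Co1))) ∈ NN := hv
    have h2 : QuotientGroup.mk' (Zx xx) ⟨g, mem_centralizer_singleton_iff.2 hg⟩ = 1 := by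
      rw [← Subgroup.mem_bot, ← h]
      exact ⟨_, h1, rfl⟩
    have h3 : (⟨g, mem_centralizer_singleton_iff.2 hg⟩ : ↥(centralizer ({xx} : Set Spor.Co1))) ∈ Zx xx :=
      (QuotientGroup.eq_one_iff _).1 h2
    obtain ⟨i, hi⟩ := Subgroup.mem_zpowers_iff.1 h3
    exact ⟨i, congrArg Subtype.val hi⟩
  · exfalso
    set N := NN.map (QuotientGroup.mk' (Zx xx)) with hNd
    have hfin : Finite (XX xx) := Nat.finite_of_card_ne_zero (by rw [quo.1]; norm_num)
    have h1 := Subgroup.card_mul_index N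
    rw [quo.1] at h1
    obtain ⟨k, hk⟩ := h
    rw [hk, mul_assoc] at h1
    have h2 : k * N.index = 2 := by omega
    have h3 : N.index ∣ 2 := ⟨k, by rw [← h2, mul_comm]⟩
    obtain ⟨i, hi⟩ := exists_moved
    apply hi
    let t' : ↥(centralizer ({xx} : Set Spor.Co1)) := ⟨tt, mem_centralizer_singleton_iff.2 t_x⟩
    have h4 : (QuotientGroup.mk' (Zx xx) t'⁻¹) ^ 2 ∈ N := by
      have h5 : (QuotientGroup.mk' (Zx xx) t'⁻¹) ^ N.index ∈ N := Subgroup.pow_index_mem N _
      obtain ⟨m, hm⟩ := h3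
      rw [hm, pow_mul]
      exact N.pow_mem h5 m
    have h5 : (t'⁻¹) ^ 2 ∈ NN := hmem _ (by rw [map_pow]; exact h4)
    have h6 : (t'⁻¹) ^ 2 = t' := by
      apply Subtype.ext
      show (tt⁻¹) ^ 2 = tt
      rw [inv_pow, inv_eq_iff_mul_eq_one, ← pow_succ, t_pow]
    rw [h6] at h5
    exact h5 _ (fixed_ub i)

/-- **`xx` satisfies `CEight`.** -/
theorem cEight : CEight xx where
  faith := faith
  gen := gen_four
  card := quo.1
  normal := quo.2

end Cfsg.Agent.MFiveHN.Inst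

end
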